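import Groth.Agent.EtClosedPts.Vanish
import Groth.Agent.EtTraceLib.DixEasy
import Groth.Agent.EtVanish.Henselian

/-!
# Curves over a Noetherian base with separably closed residue fields at closed points
-/

set_option autoImplicit false
set_option backward.isDefEq.respectTransparency false
set_option backward.isDefEq.respectTransparency.types false
set_option linter.style.haveILetI false
set_option maxHeartbeats 800000

universe u

open CategoryTheory CategoryTheory.Limits AlgebraicGeometry Opposite CategoryTheory.Abelian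

noncomputable section

namespace Groth.Agent.CurveNoeth

open EtTraceLib EtPtsLib EtClosedPts

variable {X : Scheme.{u}} [AlgebraicGeometry.IsNoetherian X]
  (hcl : ∀ x : X, IsClosed ({x} : Set X) → IsSepClosed (X.residueField x))

include hcl in
/-- Higher cohomology of a sheaf supported at a closed point vanishes. -/
theorem H_eq_zero_of_supp {F : EtCoh.Ab X} (x : X) (hx : IsClosed ({x} : Set X)) (hF : EtPBC.supp F ⊆ {x}) (n : ℕ)
    (e : EtCoh.H X F (n + 1)) : e = 0 := by
  haveI := hcl x hx
  haveI := isIso_unit_of_supp x hx hF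
  let u := asIso ((EtCoh.pullPushAdj (X.fromSpecResidueField x)).unit.app F)
  have h1 : e.comp (Ext.mk₀ u.hom) (add_zero _) = 0 :=
    H_push_eq_zero (k := (X.residueField x : Type u)) (X.fromSpecResidueField x)
      (fieldAcyclic_of_sepClosed (X.residueField x) _) (n + 1) (H_eq_zero_of_sepClosed (X.residueField x) _ n) _
  have h2 : (e.comp (Ext.mk₀ u.hom) (add_zero _)).comp (Ext.mk₀ u.inv) (add_zero _) = e := by
    rw [Ext.comp_assoc_of_second_deg_zero, Ext.mk₀_comp_mk₀, Iso.hom_inv_id, Ext.comp_mk₀_id]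
  rw [← h2, h1, Ext.zero_comp]

include hcl in
/-- Sheaves supported at closed points have no higher cohomology over a separably closed field. -/
theorem subsingleton_H_of_supp_closedPoints (F : EtCoh.Ab X)
    (hF : ∀ x ∈ EtPBC.supp F, IsClosed ({x} : Set X)) (q : ℕ) (hq : 0 < q) : Subsingleton (EtCoh.H X F q) := by
  obtain ⟨n, rfl⟩ : ∃ n, q = n + 1 := ⟨q - 1, by omega⟩
  haveI := isIso_desc F hF
  have hS := subsingleton_H_coprod (fun x => part F x) (coproductIsCoproduct fun x => part F x) (n + 1)
    fun x e => H_eq_zero_of_supp hcl x.1 x.2 (supp_part F x) n e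
  refine subsingleton_of_forall_eq 0 fun e => ?_
  have h1 : e.comp (Ext.mk₀ (inv (desc F))) (add_zero _) = 0 := @Subsingleton.elim _ hS _ 0
  have h2 : (e.comp (Ext.mk₀ (inv (desc F))) (add_zero _)).comp (Ext.mk₀ (desc F)) (add_zero _) = e := by
    rw [Ext.comp_assoc_of_second_deg_zero, Ext.mk₀_comp_mk₀, IsIso.inv_hom_id, Ext.comp_mk₀_id]
  rw [← h2, h1, Ext.zero_comp]

include hcl in
theorem subsingleton_H_of_maximal (hdim : topologicalKrullDim X ≤ 1) (F : EtCoh.Ab X)
    (hgen : ∀ (Ω : Type u) [Field Ω] [IsSepClosed Ω] (ξ : Spec (CommRingCat.of Ω) ⟶ X),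
      (∀ x ∈ Set.range ξ.base, ∀ y : X, y ⤳ x → y = x) → IsZero ((EtCoh.stalk ξ).obj F))
    (q : ℕ) (hq : 0 < q) : Subsingleton (EtCoh.H X F q) := by
  exact subsingleton_H_of_supp_closedPoints hcl F (supp_closed_of_maximal hdim F hgen) q hq

include hcl in
/-- The cokernel of the unit at a point has no higher cohomology. -/
theorem subsingleton_H_cokernel (hdim : topologicalKrullDim X ≤ 1) {F : EtCoh.Ab X} (y : X) (φ : F ⟶ (EtCoh.push (X.fromSpecResidueField y)).obj (atPt y F))
    (hφ : φ = ptUnit y F) (q : ℕ) (hq : 0 < q) : Subsingleton (EtCoh.H X (cokernel φ) q) := by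
  subst hφ
  refine subsingleton_H_of_maximal hcl hdim _ (fun Ω _ _ ξ hmax => ?_) q hq
  by_cases h : ξ default = y
  · exact (isZero_stalk_kernel_cokernel (ptUnit y F) ξ (isIso_stalk_ptUnit y ξ h F)).2
  · haveI : Epi ((EtCoh.stalk ξ).map (cokernel.π (ptUnit y F))) :=
      (AddCommGrpCat.epi_iff_surjective _).2 ((epi_iff_ab _).1 inferInstance Ω ξ)
    exact IsZero.of_epi ((EtCoh.stalk ξ).map (cokernel.π (ptUnit y F)))
      (isZero_stalk_push_point y ξ (fun hs => h (eq_of_maximal hmax hs)) _)

include hcl in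
/-- Dévissage to the maximal points. -/
theorem subsingleton_H_devissage (hdim : topologicalKrullDim X ≤ 1) (n : ℕ) (hn : 2 ≤ n) :
    ∀ (T : Finset X), (∀ y ∈ T, ∀ w : X, w ⤳ y → w = y) → ∀ F : EtCoh.Ab X,
      (∀ (Ω : Type u) [Field Ω] [IsSepClosed Ω] (ξ : Spec (CommRingCat.of Ω) ⟶ X),
        (∀ x ∈ Set.range ξ.base, ∀ w : X, w ⤳ x → w = x) → ξ default ∉ T → IsZero ((EtCoh.stalk ξ).obj F)) →
      (∀ y ∈ T, ∀ q, n ≤ q → Subsingleton (EtCoh.H X ((EtCoh.push (X.fromSpecResidueField y)).obj (atPt y F)) q)) →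
      ∀ q, n ≤ q → Subsingleton (EtCoh.H X F q) := by
  classical
  intro T
  induction T using Finset.induction with
  | empty =>
    intro _ F h0 _ q hq
    exact subsingleton_H_of_maximal hcl hdim F (fun Ω _ _ ξ hmax => h0 Ω ξ hmax (Finset.notMem_empty _)) q (by omega)
  | @insert y T hy ih =>
    intro hT F h0 hA q hq
    obtain ⟨w, hS⟩ := shortExact_image (ptUnit y F)
    let S₂ := ShortComplex.mk (Abelian.image.ι (ptUnit y F)) (cokernel.π (ptUnit y F)) (kernel.condition _)
    have hS₂ : S₂.ShortExact := ⟨ShortComplex.exact_of_f_is_kernel _ (kernelIsKernel _)⟩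
    have hK : Subsingleton (EtCoh.H X (kernel (ptUnit y F)) q) := by
      refine ih (fun z hz => hT z (Finset.mem_insert_of_mem hz)) _ (fun Ω _ _ ξ hmax hξ => ?_) (fun z hz q' hq' => ?_) q hq
      · by_cases h : ξ default = y
        · exact (isZero_stalk_kernel_cokernel (ptUnit y F) ξ (isIso_stalk_ptUnit y ξ h F)).1
        · haveI := AddCommGrpCat.subsingleton_of_isZero
            (h0 Ω ξ hmax (by rw [Finset.mem_insert, not_or]; exact ⟨h, hξ⟩))
          exact AddCommGrpCat.isZero_iff_subsingleton.2 (stalk_injective (kernel.ι (ptUnit y F)) ξ).subsingleton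
      · haveI := isIso_atPt_kernel (F := F) y z (hT z (Finset.mem_insert_of_mem hz)) (fun e => hy (e ▸ hz))
        exact subsingleton_H_of_iso ((EtCoh.push (X.fromSpecResidueField z)).mapIso
          (asIso ((EtCoh.pull (X.fromSpecResidueField z)).map (kernel.ι (ptUnit y F))))) q'
          (hA z (Finset.mem_insert_of_mem hz) q' hq')
    have hI : Subsingleton (EtCoh.H X (Abelian.image (ptUnit y F)) q) :=
      @Function.Injective.subsingleton _ _ _ (bijective_f hS₂
        (fun m hm => subsingleton_H_cokernel hcl hdim y _ rfl m hm) q (by omega)).1 (hA y (Finset.mem_insert_self _ _) q hq)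
    refine subsingleton_of_forall_eq 0 fun x => ?_
    obtain ⟨a, ha⟩ := Ext.covariant_sequence_exact₂ _ hS x (@Subsingleton.elim _ hI _ 0)
    rw [← ha, @Subsingleton.elim _ hK a 0, Ext.zero_comp]

/-- The maximal points are finitely many. -/
theorem exists_finset_maximal : ∃ T : Finset X, ∀ y, y ∈ T ↔ ∀ w : X, w ⤳ y → w = y := by
  have hfin : {y : X | ∀ w : X, w ⤳ y → w = y}.Finite := by
    refine Set.Finite.of_finite_image ((TopologicalSpace.NoetherianSpace.finite_irreducibleComponents (α := X)).subset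
      (?_ : (fun y : X => closure ({y} : Set X)) '' _ ⊆ _)) fun a _ b _ h => ?_
    · rintro _ ⟨y, hy, rfl⟩
      refine ⟨isIrreducible_singleton.closure, fun Z hZ hle => ?_⟩
      obtain ⟨g, hg⟩ := QuasiSober.sober hZ.closure isClosed_closure
      have hgy : g ⤳ y := specializes_iff_mem_closure.2 (hg.def ▸ subset_closure (hle (subset_closure rfl)))
      rw [hy g hgy] at hg
      show Z ⊆ closure {y}
      rw [hg.def]
      exact subset_closure
    · exact (inseparable_iff_closure_eq.2 h).eq
  exact ⟨hfin.toFinset, fun y => hfin.mem_toFinset⟩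

/-- The cokernel of an embedding into an injective of a sheaf of cohomological dimension one is acyclic. -/
theorem fieldAcyclic_cokernel (K : Type u) [Field K] (G : EtCoh.Ab (Spec (CommRingCat.of K)))
    (hL : ∀ (L : Type u) [Field L] [Algebra K L] [FiniteDimensional K L] [Algebra.IsSeparable K L] (m : ℕ), 2 ≤ m →
      ∀ x : EtCoh.H (Spec (CommRingCat.of L)) ((EtShriek.restrAlong (specπ K L)).obj G) m, x = 0)
    {I : EtCoh.Ab (Spec (CommRingCat.of K))} [Injective I] (i : G ⟶ I) [Mono i] :
    FieldAcyclic K (cokernel i) := by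
  intro L _ _ _ _ q x
  obtain ⟨hl, hr⟩ := preservesFiniteLimits_restr (k := K) L
  haveI := hl
  haveI := hr
  let S := ShortComplex.mk i (cokernel.π i) (cokernel.condition i)
  have hS : S.ShortExact := ⟨ShortComplex.exact_of_g_is_cokernel _ (cokernelIsCokernel i)⟩
  have hS' : (S.map (EtShriek.restrAlong (specπ K L))).ShortExact := hS.map_of_exact _
  haveI : Injective ((EtShriek.restrAlong (specπ K L)).obj I) := injective_restrAlong_specπ K L I
  obtain ⟨y, hy⟩ := Ext.covariant_sequence_exact₃ _ hS' x rfl (hL L (q + 2) (by omega) _)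
  rw [← hy]
  haveI : Injective (S.map (EtShriek.restrAlong (specπ K L))).X₂ := injective_restrAlong_specπ K L I
  rw [@Subsingleton.elim _ (Ext.subsingleton_of_injective _ _ q) y 0, Ext.zero_comp]

/-- A sheaf killed by ℓ over a field of ℓ-cohomological dimension one is killed over finite extensions. -/
theorem eq_zero_of_killed_finite (K : Type u) [Field K] (ℓ : ℕ) (hcd : Dix.CohDimLEAt (Spec (CommRingCat.of K)) ℓ 1)
    (G : EtCoh.Ab (Spec (CommRingCat.of K))) (hG : ℓ • 𝟙 G = 0) (L : Type u) [Field L] [Algebra K L]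
    [FiniteDimensional K L] [Algebra.IsSeparable K L] (m : ℕ) (hm : 2 ≤ m)
    (x : EtCoh.H (Spec (CommRingCat.of L)) ((EtShriek.restrAlong (specπ K L)).obj G) m) : x = 0 := by
  haveI := (preservesFiniteLimits_restr (k := K) L).1
  haveI : (EtShriek.restrAlong (specπ K L)).Additive := Functor.additive_of_preserves_binary_products _
  haveI : (EtCoh.push (specπ K L)).IsRightAdjoint := (EtCoh.pullPushAdj (specπ K L)).isRightAdjoint
  haveI : (EtCoh.push (specπ K L)).Additive := Functor.additive_of_preserves_binary_products _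
  haveI : IsIntegralHom (specπ K L) := inferInstance
  obtain ⟨e⟩ := EtVanish.nonempty_H_push_equiv (specπ K L) ((EtShriek.restrAlong (specπ K L)).obj G) m
  refine e.symm.injective ?_
  rw [map_zero]
  refine eq_zero_of_cohDimLEAt ℓ 1 hcd 1 _ ?_ m (by omega) _
  have h := congrArg (fun a => (EtCoh.push (specπ K L)).map ((EtShriek.restrAlong (specπ K L)).map a)) hG
  simp only [Functor.map_nsmul, CategoryTheory.Functor.map_id, Functor.map_zero] at h
  rw [pow_one]
  exact h

include hcl in
/-- Direct images of torsion sheaves at points with surjective norms have no cohomology above degree two. -/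
theorem subsingleton_H_push_of_cd (hdim : topologicalKrullDim X ≤ 1) (y : X) (G : EtCoh.Ab (Spec (X.residueField y)))
    (hK : ∀ m : ℕ, 2 ≤ m → ∀ x : EtCoh.H (Spec (X.residueField y)) G m, x = 0)
    (hL : ∀ (L : Type u) [Field L] [Algebra (X.residueField y) L] [FiniteDimensional (X.residueField y) L]
      [Algebra.IsSeparable (X.residueField y) L] (m : ℕ), 2 ≤ m →
      ∀ x : EtCoh.H (Spec (CommRingCat.of L)) ((EtShriek.restrAlong (specπ (X.residueField y : Type u) L)).obj G) m, x = 0)
    (q : ℕ) (hq : 3 ≤ q) :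
    Subsingleton (EtCoh.H X ((EtCoh.push (X.fromSpecResidueField y)).obj G) q) := by
  let P := EtCoh.push (X.fromSpecResidueField y)
  haveI : P.IsRightAdjoint := (EtCoh.pullPushAdj (X.fromSpecResidueField y)).isRightAdjoint
  haveI : PreservesFiniteLimits (EtCoh.pull (X.fromSpecResidueField y)) := Groth.Agent.S0101.result _
  let i := Injective.ι G
  let C := cokernel i
  have hC : FieldAcyclic (X.residueField y : Type u) C := fieldAcyclic_cokernel _ G hL i
  haveI : Injective (P.obj (Injective.under G)) :=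
    Injective.injective_of_adjoint (EtCoh.pullPushAdj (X.fromSpecResidueField y)) _
  have hIinj : ∀ m, 0 < m → Subsingleton (EtCoh.H X (P.obj (Injective.under G)) m) := fun m hm => by
    obtain ⟨m, rfl⟩ : ∃ n, m = n + 1 := ⟨m - 1, by omega⟩
    exact Ext.subsingleton_of_injective _ _ m
  have hCv : ∀ m, 0 < m → Subsingleton (EtCoh.H X (P.obj C) m) := fun m hm => by
    obtain ⟨m, rfl⟩ : ∃ n, m = n + 1 := ⟨m - 1, by omega⟩
    refine subsingleton_of_forall_eq 0 fun e => H_push_eq_zero (k := (X.residueField y : Type u))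
      (X.fromSpecResidueField y) hC (m + 1) (fun x => ?_) e
    let S := ShortComplex.mk i (cokernel.π i) (cokernel.condition i)
    have hS : S.ShortExact := ⟨ShortComplex.exact_of_g_is_cokernel _ (cokernelIsCokernel i)⟩
    obtain ⟨z, hz⟩ := Ext.covariant_sequence_exact₃ _ hS x rfl
      (hK (m + 1 + 1) (by omega) _)
    haveI : Injective S.X₂ := inferInstanceAs (Injective (Injective.under G))
    rw [← hz, @Subsingleton.elim _ (Ext.subsingleton_of_injective _ _ m) z 0, Ext.zero_comp]
  -- the image and its cokernel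
  let φ := P.map (cokernel.π i)
  have hQ : ∀ m, 0 < m → Subsingleton (EtCoh.H X (cokernel φ) m) := fun m hm => by
    refine subsingleton_H_of_maximal hcl hdim _ (fun Ω _ _ ξ hmax => ?_) m hm
    haveI : Epi ((EtCoh.stalk ξ).map (cokernel.π φ)) :=
      (AddCommGrpCat.epi_iff_surjective _).2 ((epi_iff_ab _).1 inferInstance Ω ξ)
    by_cases h : ξ default = y
    · refine IsZero.of_epi_eq_zero ((EtCoh.stalk ξ).map (cokernel.π φ)) ?_
      haveI : Epi ((EtCoh.stalk ξ).map φ) :=
        (AddCommGrpCat.epi_iff_surjective _).2 (surjective_stalk_push_map y ξ h (cokernel.π i))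
      rw [← cancel_epi ((EtCoh.stalk ξ).map φ), ← Functor.map_comp, cokernel.condition, Functor.map_zero, comp_zero]
    · exact IsZero.of_epi ((EtCoh.stalk ξ).map (cokernel.π φ))
        (isZero_stalk_push_point y ξ (fun hs => h (eq_of_maximal hmax hs)) _)
  let S₂ := ShortComplex.mk (Abelian.image.ι φ) (cokernel.π φ) (kernel.condition _)
  have hS₂ : S₂.ShortExact := ⟨ShortComplex.exact_of_f_is_kernel _ (kernelIsKernel _)⟩
  have hJ : ∀ m, 1 < m → Subsingleton (EtCoh.H X (Abelian.image φ) m) := fun m hm =>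
    @Function.Injective.subsingleton _ _ _ (bijective_f hS₂ hQ m hm).1 (hCv m (by omega))
  obtain ⟨w, hS⟩ := shortExact_image φ
  haveI : P.Additive := Functor.additive_of_preserves_binary_products P
  have hker : IsLimit (KernelFork.ofι (P.map i) (by rw [← P.map_comp, cokernel.condition, Functor.map_zero] :
      P.map i ≫ φ = 0)) :=
    isLimitForkMapOfIsLimit' P (cokernel.condition i) (monoIsKernelOfCokernel (CokernelCofork.ofπ (cokernel.π i) (cokernel.condition i)) (cokernelIsCokernel i))
  let eK : kernel φ ≅ P.obj G := (kernelIsKernel φ).conePointUniqueUpToIso hker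
  refine subsingleton_H_of_iso eK.symm q ?_
  obtain ⟨n, rfl⟩ : ∃ n, q = n + 1 := ⟨q - 1, by omega⟩
  refine subsingleton_of_forall_eq 0 fun x => ?_
  obtain ⟨z, hz⟩ := Ext.covariant_sequence_exact₁ _ hS x (@Subsingleton.elim _ (hIinj (n + 1) (by omega)) _ 0) rfl
  rw [← hz, @Subsingleton.elim _ (hJ n (by omega)) z 0, Ext.zero_comp]

end Groth.Agent.CurveNoeth
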