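import Groth.Agent.CurveNoeth.Basic
import Groth.Agent.EtTraceLib.GenFibre

/-!
# The multiplicative group at the maximal points
-/

set_option autoImplicit false
set_option backward.isDefEq.respectTransparency false
set_option backward.isDefEq.respectTransparency.types false
set_option linter.style.haveILetI false
set_option maxHeartbeats 1000000

universe u

open CategoryTheory CategoryTheory.Limits AlgebraicGeometry Opposite

noncomputable section

namespace Groth.Agent.CurveNoeth

open EtTraceLib EtPtsLib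

variable {X : Scheme.{u}} (y : X)

/-- The local scheme at a point. -/
abbrev jLoc : Spec (X.presheaf.stalk y) ⟶ X := X.fromSpecStalk y

/-- The fibre of an étale scheme over the local scheme. -/
abbrev locFib (U : X.Etale) : Scheme.{u} := ((EtCoh.bc (jLoc y)).obj U).left

/-- The projection of the local fibre. -/
abbrev locFst (U : X.Etale) : locFib y U ⟶ U.left := pullback.fst (str U) (jLoc y)

section Maximal

variable {y}

theorem subsingleton_spec (hy : ∀ w : X, w ⤳ y → w = y) : Subsingleton (Spec (X.presheaf.stalk y)) := by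
  refine ⟨fun a b => (jLoc y).isEmbedding.injective ?_⟩
  have h : ∀ z, jLoc y z = y := fun z => hy _ (by
    have hr : jLoc y z ∈ Set.range (jLoc y) := ⟨z, rfl⟩
    rw [Scheme.range_fromSpecStalk] at hr
    exact hr)
  rw [h, h]

theorem str_locFst (hy : ∀ w : X, w ⤳ y → w = y) (U : X.Etale) (w : locFib y U) : str U (locFst y U w) = y := by
  refine hy _ ?_
  have h2 : str U (locFst y U w) = jLoc y ((pullback.snd (str U) (jLoc y) : locFib y U ⟶ _) w) :=
    congrArg (fun m : locFib y U ⟶ X => m w) pullback.condition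
  have hr : str U (locFst y U w) ∈ Set.range (jLoc y) := ⟨_, h2.symm⟩
  rw [Scheme.range_fromSpecStalk] at hr
  exact hr

instance (U : X.Etale) : IsPreimmersion (locFst y U) := by
  haveI : IsPreimmersion (jLoc y) := inferInstanceAs (IsPreimmersion (X.fromSpecStalk _))
  exact MorphismProperty.pullback_fst _ _ inferInstance

instance (U : X.Etale) : Mono (locFst y U) := by
  haveI : Mono (jLoc y) := inferInstanceAs (Mono (X.fromSpecStalk _))
  exact inferInstanceAs (Mono (pullback.fst (str U) (jLoc y)))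

/-- The point of the local fibre defined by a point over the given one. -/
def locLift (U : X.Etale) (v : U.left) (hv : str U v = y) : Spec (U.left.presheaf.stalk v) ⟶ locFib y U :=
  pullback.lift (U.left.fromSpecStalk v)
    (Spec.map (X.presheaf.stalkSpecializes (Inseparable.of_eq hv).specializes ≫ (str U).stalkMap v))
    (by
      refine Eq.symm (((congrArg (· ≫ jLoc y) (Spec.map_comp _ _)).trans (Category.assoc _ _ _)).trans ?_)
      exact (congrArg (Spec.map ((str U).stalkMap v) ≫ ·)
        (Scheme.SpecMap_stalkSpecializes_fromSpecStalk _)).trans (Scheme.SpecMap_stalkMap_fromSpecStalk (str U)))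

theorem locLift_fst (U : X.Etale) (v : U.left) (hv : str U v = y) :
    locLift U v hv ≫ locFst y U = U.left.fromSpecStalk v :=
  pullback.lift_fst _ _ _

/-- Functions on the local fibre, evaluated at a point. -/
def locEv (U : X.Etale) (v : U.left) (hv : str U v = y) : Γ(locFib y U, ⊤) →+* U.left.presheaf.stalk v :=
  ((locLift U v hv).appTop ≫ (Scheme.ΓSpecIso (U.left.presheaf.stalk v)).hom).hom

theorem fromSpecStalk_appTop' (Z : Scheme.{u}) (x : Z) (a : Γ(Z, ⊤)) :
    (Scheme.ΓSpecIso (Z.presheaf.stalk x)).hom ((Z.fromSpecStalk x).appTop a) = Z.presheaf.germ ⊤ x trivial a := by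
  have h : (Z.fromSpecStalk x).appTop ≫ (Scheme.ΓSpecIso (Z.presheaf.stalk x)).hom = Z.presheaf.germ ⊤ x trivial := by
    rw [Scheme.fromSpecStalk_appTop]
    simp
  exact ConcreteCategory.congr_hom h a

theorem locEv_fst (U : X.Etale) (v : U.left) (hv : str U v = y) (a : Γ(U.left, ⊤)) :
    locEv U v hv ((locFst y U).appTop a) = U.left.presheaf.germ ⊤ v trivial a := by
  refine Eq.trans ?_ (fromSpecStalk_appTop' U.left v a)
  show (Scheme.ΓSpecIso _).hom ((locLift U v hv).appTop ((locFst y U).appTop a)) = _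
  rw [← locLift_fst U v hv, Scheme.Hom.comp_appTop]
  rfl

theorem locEv_map {U V : X.Etale} (g : V ⟶ U) (v : V.left) (hv : str V v = y) (hu : str U (g.left v) = y)
    (s : Γ(locFib y U, ⊤)) :
    locEv V v hv (((EtCoh.bc (jLoc y)).map g).left.appTop s) = g.left.stalkMap v (locEv U (g.left v) hu s) := by
  have hm : locLift V v hv ≫ ((EtCoh.bc (jLoc y)).map g).left = Spec.map (g.left.stalkMap v) ≫ locLift U _ hu := by
    rw [← cancel_mono (locFst y U)]
    have e1 : ((EtCoh.bc (jLoc y)).map g).left ≫ locFst y U = locFst y V ≫ g.left :=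
      (EtCoh.isPullback_bc_map (jLoc y) g).w
    refine ((Category.assoc _ _ _).trans ((congrArg (locLift V v hv ≫ ·) e1).trans
      ((Category.assoc _ _ _).symm.trans (congrArg (· ≫ g.left) (locLift_fst V v hv))))).trans ?_
    rw [Category.assoc, locLift_fst, Scheme.SpecMap_stalkMap_fromSpecStalk]
  have h := congrArg (fun m => Scheme.Hom.appTop m ≫ (Scheme.ΓSpecIso (V.left.presheaf.stalk v)).hom) hm
  simp only [Scheme.Hom.comp_appTop, Category.assoc, Scheme.ΓSpecIso_naturality] at h
  exact ConcreteCategory.congr_hom h s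

theorem isIso_fromSpecStalk (Z : Scheme.{u}) [Subsingleton Z] (w : Z) : IsIso (Z.fromSpecStalk w) := by
  have hb : Function.Bijective (Z.presheaf.germ ⊤ w trivial) := by
    refine ⟨fun a b h => ?_, fun c => ?_⟩
    · refine TopCat.Presheaf.section_ext Z.sheaf ⊤ a b fun x hx => ?_
      obtain rfl := Subsingleton.elim w x
      exact h
    · obtain ⟨O, hO, a, rfl⟩ := Z.presheaf.exists_germ_eq c
      obtain rfl : O = ⊤ := top_unique fun x _ => Subsingleton.elim w x ▸ hO
      exact ⟨a, rfl⟩
  haveI : IsIso (Z.presheaf.germ ⊤ w trivial) := (ConcreteCategory.isIso_iff_bijective _).2 hb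
  have h : Z.fromSpecStalk w = Spec.map (Z.presheaf.germ ⊤ w trivial) ≫ Z.isoSpec.inv := by
    rw [← (isAffineOpen_top Z).fromSpecStalk_eq_fromSpecStalk (x := w) trivial]
    show Spec.map _ ≫ (isAffineOpen_top Z).fromSpec = _
    rw [IsAffineOpen.fromSpec_top]
  rw [h]
  infer_instance

/-- When the point is alone in its fibre, the local fibre is its local scheme. -/
theorem locEv_bijective (hy : ∀ w : X, w ⤳ y → w = y) (U : X.Etale) (v : U.left) (hv : str U v = y)
    (hone : ∀ z : U.left, str U z = y → z = v) : Function.Bijective (locEv U v hv) := by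
  haveI : Subsingleton (locFib y U) := ⟨fun a b => (locFst y U).isEmbedding.injective
    ((hone _ (str_locFst hy U a)).trans (hone _ (str_locFst hy U b)).symm)⟩
  let w : locFib y U := locLift U v hv (IsLocalRing.closedPoint _)
  haveI := isIso_fromSpecStalk (locFib y U) w
  have hw : locFst y U w = v := hone _ (str_locFst hy U w)
  let M : locFib y U ⟶ Spec (U.left.presheaf.stalk v) := inv ((locFib y U).fromSpecStalk w) ≫
    Spec.map (U.left.presheaf.stalkSpecializes (Inseparable.of_eq hw).specializes ≫ (locFst y U).stalkMap w)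
  have hM : M ≫ U.left.fromSpecStalk v = locFst y U := by
    rw [Category.assoc, IsIso.inv_comp_eq, Spec.map_comp, Category.assoc,
      Scheme.SpecMap_stalkSpecializes_fromSpecStalk, Scheme.SpecMap_stalkMap_fromSpecStalk]
  haveI : IsIso (locLift U v hv) := ⟨M, by
    rw [← cancel_mono (U.left.fromSpecStalk v), Category.assoc, hM, locLift_fst, Category.id_comp], by
    rw [← cancel_mono (locFst y U), Category.assoc, locLift_fst, hM, Category.id_comp]⟩
  exact ConcreteCategory.bijective_of_isIso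
    ((locLift U v hv).appTop ≫ (Scheme.ΓSpecIso (U.left.presheaf.stalk v)).hom)

/-- A point over a maximal point is alone in its fibre on a neighbourhood. -/
theorem exists_nbhd_one [IsLocallyNoetherian X] (hy : ∀ w : X, w ⤳ y → w = y) (U : X.Etale) (v : U.left) (hv : str U v = y) :
    ∃ O : U.left.Opens, v ∈ O ∧ ∀ z ∈ O, str U z = y → z = v := by
  haveI : LocallyQuasiFinite (str U) := EtFibCard.locallyQuasiFinite_of_etale (str U)
  obtain ⟨W, hW, hvW, -⟩ := exists_isAffineOpen_mem_and_subset (X := U.left) (x := v) (U := ⊤) trivial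
  have hd := (str U).isDiscrete_preimage_singleton y
  have hsub : ∀ z z', str U z = y → str U z' = y → z' ⤳ z → z' = z := fun z z' hz hz' h => by
    haveI := hd.to_subtype
    let a : ↥(str U ⁻¹' {y}) := ⟨z', hz'⟩
    let b : ↥(str U ⁻¹' {y}) := ⟨z, hz⟩
    have hab : a ⤳ b := Topology.IsInducing.subtypeVal.specializes_iff.1 h
    exact congrArg Subtype.val hab.eq
  haveI : CompactSpace W.toScheme := isCompact_iff_compactSpace.1 hW.isCompact
  haveI : IsLocallyNoetherian U.left := LocallyOfFiniteType.isLocallyNoetherian (str U)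
  haveI : IsLocallyNoetherian W.toScheme := LocallyOfFiniteType.isLocallyNoetherian W.ι
  haveI : AlgebraicGeometry.IsNoetherian W.toScheme := { }
  haveI : QuasiCompact (W.ι ≫ str U) := inferInstance
  have hfin : {z : U.left | z ∈ W ∧ str U z = y ∧ z ≠ v}.Finite := by
    haveI : LocallyQuasiFinite (W.ι ≫ str U) := inferInstance
    refine (((W.ι ≫ str U).finite_preimage_singleton y).image W.ι).subset fun z hz => ?_
    exact ⟨⟨z, hz.1⟩, hz.2.1, rfl⟩
  let C : Set U.left := ⋃ z ∈ {z : U.left | z ∈ W ∧ str U z = y ∧ z ≠ v}, closure {z}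
  have hC : IsClosed C := hfin.isClosed_biUnion fun _ _ => isClosed_closure
  refine ⟨W ⊓ ⟨Cᶜ, hC.isOpen_compl⟩, ⟨hvW, ?_⟩, fun z hz hzy => ?_⟩
  · intro hvC
    simp only [C, Set.mem_iUnion] at hvC
    obtain ⟨z, hz, hzv⟩ := hvC
    exact hz.2.2 (hsub v z hv hz.2.1 (specializes_iff_mem_closure.2 hzv))
  · by_contra hne
    exact hz.2 (Set.mem_biUnion (show z ∈ {z : U.left | z ∈ W ∧ str U z = y ∧ z ≠ v} from ⟨hz.1, hzy, hne⟩)
      (subset_closure rfl))

theorem gmVal_map {U V : X.Etale} (g : V ⟶ U) (a : EtCoh.sect (EtCoh.Gm X) U) :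
    (gmVal V ((EtCoh.Gm X).obj.map g.op a) : Γ(V.left, ⊤)) = g.left.appTop (gmVal U a : Γ(U.left, ⊤)) :=
  rfl

theorem gmVal_inj {U : X.Etale} {a b : EtCoh.sect (EtCoh.Gm X) U}
    (h : (gmVal U a : Γ(U.left, ⊤)) = gmVal U b) : a = b :=
  ULift.ext _ _ (Additive.toMul.injective (Units.ext h))

/-- The evaluation of a section of the direct image. -/
def locVal (U : X.Etale) (v : U.left) (hv : str U v = y)
    (t : EtCoh.sect ((EtCoh.push (jLoc y)).obj (EtCoh.Gm (Spec (X.presheaf.stalk y)))) U) : U.left.presheaf.stalk v :=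
  locEv U v hv (gmVal ((EtCoh.bc (jLoc y)).obj U)
    (t : EtCoh.sect (EtCoh.Gm (Spec (X.presheaf.stalk y))) ((EtCoh.bc (jLoc y)).obj U)) : Γ(locFib y U, ⊤))

theorem locVal_inj (hy : ∀ w : X, w ⤳ y → w = y) {U : X.Etale} (v : U.left) (hv : str U v = y)
    (hone : ∀ z : U.left, str U z = y → z = v)
    {s t : EtCoh.sect ((EtCoh.push (jLoc y)).obj (EtCoh.Gm (Spec (X.presheaf.stalk y)))) U}
    (h : locVal U v hv s = locVal U v hv t) : s = t := by
  have h1 := (locEv_bijective hy U v hv hone).1 h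
  exact ULift.ext _ _ (Additive.toMul.injective (Units.ext h1))

theorem locVal_GmPush (U : X.Etale) (v : U.left) (hv : str U v = y) (a : EtCoh.sect (EtCoh.Gm X) U) :
    locVal U v hv ((EtLim.GmPush (jLoc y)).hom.app (op U) a) =
      U.left.presheaf.germ ⊤ v trivial (gmVal U a : Γ(U.left, ⊤)) :=
  locEv_fst U v hv _

theorem locVal_map {U V : X.Etale} (g : V ⟶ U) (v : V.left) (hv : str V v = y) (hu : str U (g.left v) = y)
    (t : EtCoh.sect ((EtCoh.push (jLoc y)).obj (EtCoh.Gm (Spec (X.presheaf.stalk y)))) U) :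
    locVal V v hv (((EtCoh.push (jLoc y)).obj (EtCoh.Gm _)).obj.map g.op t) =
      g.left.stalkMap v (locVal U (g.left v) hu t) :=
  locEv_map g v hv hu _

theorem isUnit_locVal (U : X.Etale) (v : U.left) (hv : str U v = y)
    (t : EtCoh.sect ((EtCoh.push (jLoc y)).obj (EtCoh.Gm (Spec (X.presheaf.stalk y)))) U) :
    IsUnit (locVal U v hv t) :=
  RingHom.isUnit_map (locEv U v hv) (Units.isUnit _)

/-- The canonical map to the direct image is bijective on stalks over the maximal point. -/
theorem isIso_stalk_GmPush [IsLocallyNoetherian X] (hy : ∀ w : X, w ⤳ y → w = y) {Ω : Type u} [Field Ω] [IsSepClosed Ω]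
    (ξ : Spec (CommRingCat.of Ω) ⟶ X) (hξ : ξ default = y) :
    IsIso ((EtCoh.stalk ξ).map (EtLim.GmPush (jLoc y))) := by
  have hstr : ∀ (U : X.Etale) (l : (Scheme.pointSmallEtale ξ).fiber.obj U), str U (liftHom ξ l default) = y :=
    fun U l => (((Scheme.Hom.comp_apply _ _ _).symm.trans (congrArg (fun m => m default) (liftHom_comp ξ l)))).trans hξ
  have hsmall : ∀ (U : X.Etale) (l : (Scheme.pointSmallEtale ξ).fiber.obj U) (O : U.left.Opens),
      liftHom ξ l default ∈ O → ∃ (V : X.Etale) (g : V ⟶ U) (l' : (Scheme.pointSmallEtale ξ).fiber.obj V)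
        (v : V.left), (Scheme.pointSmallEtale ξ).fiber.map g l' = l ∧ str V v = y ∧ g.left v ∈ O ∧
          g.left v = liftHom ξ l default ∧ (∀ z : V.left, str V z = y → z = v) ∧
          IsOpenImmersion g.left ∧ Set.range g.left ⊆ (O : Set U.left) := by
    intro U l O hO
    obtain ⟨O', hv', hone⟩ := exists_nbhd_one hy U _ (hstr U l)
    let V := openSub U (O ⊓ O')
    let g := openIncl U (O ⊓ O')
    let v : V.left := (⟨_, hO, hv'⟩ : (O ⊓ O').toScheme)
    obtain ⟨l', hl'⟩ := exists_fiber_map_eq ξ g l v rfl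
    refine ⟨V, g, l', v, hl', ?_, hO, rfl, fun z hz => ?_, inferInstanceAs (IsOpenImmersion (O ⊓ O').ι), ?_⟩
    · exact (congrArg (fun m : V.left ⟶ X => m v) (Over.w g.hom).symm).trans (hstr U l)
    · refine Subtype.ext (hone z.1 z.2.2 ?_)
      exact ((congrArg (fun m : V.left ⟶ X => m z) (Over.w g.hom).symm).symm.trans hz :)
    · rintro _ ⟨z, rfl⟩
      exact z.2.1
  refine (ConcreteCategory.isIso_iff_bijective _).2 ⟨(injective_iff_map_eq_zero _).2 fun b hb => ?_, fun b => ?_⟩
  · obtain ⟨U, l, s, rfl⟩ := (Scheme.pointSmallEtale ξ).toPresheafFiber_jointly_surjective b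
    have hb' : (Scheme.pointSmallEtale ξ).toPresheafFiber U l ((EtCoh.push (jLoc y)).obj (EtCoh.Gm (Spec (X.presheaf.stalk y)))).obj
        ((EtLim.GmPush (jLoc y)).hom.app (op U) s) =
          (Scheme.pointSmallEtale ξ).toPresheafFiber U l ((EtCoh.push (jLoc y)).obj (EtCoh.Gm (Spec (X.presheaf.stalk y)))).obj
            (0 : EtCoh.sect ((EtCoh.push (jLoc y)).obj (EtCoh.Gm (Spec (X.presheaf.stalk y)))) U) := by
      rw [map_zero]
      exact ((Scheme.pointSmallEtale ξ).toPresheafFiber_naturality_apply (EtLim.GmPush (jLoc y)).hom U l s).symm.trans hb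
    obtain ⟨U', f, l', hf, he⟩ := ((Scheme.pointSmallEtale ξ).toPresheafFiber_eq_iff' U l _ _).1 hb'
    obtain ⟨V, g, l'', v, hl'', hv, -, -, hone, -, -⟩ := hsmall U' l' ⊤ trivial
    have hgerm : V.left.presheaf.germ ⊤ v trivial (gmVal V ((EtCoh.Gm X).obj.map (g ≫ f).op s) : Γ(V.left, ⊤)) =
        V.left.presheaf.germ ⊤ v trivial (1 : Γ(V.left, ⊤)) := by
      rw [← locVal_GmPush V v hv, NatTrans.naturality_apply (EtLim.GmPush (jLoc y)).hom (g ≫ f).op s, op_comp,
        Functor.map_comp_apply, he, map_zero, map_zero, map_one]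
      exact map_one (locEv V v hv)
    obtain ⟨O', hvO', i₁, i₂, hO⟩ := TopCat.Presheaf.germ_eq (U := (⊤ : V.left.Opens)) (V := (⊤ : V.left.Opens))
      V.left.presheaf v trivial trivial _ _ hgerm
    let O : V.left.Opens := O'
    have hvO : v ∈ O := hvO'
    let V₂ := openSub V O
    let g₂ := openIncl V O
    have hl2 : g₂.left (⟨v, hvO⟩ : O.toScheme) = liftHom ξ l'' default := by
      exact (hone _ (hstr V l'')).symm
    obtain ⟨l₃, hl₃⟩ := exists_fiber_map_eq ξ g₂ l'' (⟨v, hvO⟩ : O.toScheme) hl2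
    rw [← map_zero ((Scheme.pointSmallEtale ξ).toPresheafFiber U l (EtCoh.Gm X).obj).hom]
    refine ((Scheme.pointSmallEtale ξ).toPresheafFiber_eq_iff' U l s 0).2
      ⟨V₂, g₂ ≫ g ≫ f, l₃, by rw [Functor.map_comp_apply, Functor.map_comp_apply, hl₃, hl'', hf], gmVal_inj ?_⟩
    rw [map_zero, op_comp, Functor.map_comp_apply]
    refine (gmVal_map g₂ _).trans ?_
    show _ = (1 : Γ(V₂.left, ⊤))
    refine TopCat.Presheaf.section_ext V₂.left.sheaf ⊤ _ _ fun z _ => ?_
    show V₂.left.presheaf.germ ⊤ z trivial (g₂.left.appTop _) = V₂.left.presheaf.germ ⊤ z trivial (1 : Γ(V₂.left, ⊤))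
    erw [← Scheme.Hom.germ_stalkMap_apply g₂.left ⊤ z trivial]
    have e : V.left.presheaf.germ ⊤ (g₂.left z) trivial (gmVal V ((EtCoh.Gm X).obj.map (g ≫ f).op s) : Γ(V.left, ⊤)) =
        1 := by
      rw [← V.left.presheaf.germ_res_apply i₁ (g₂.left z) z.2, hO,
        V.left.presheaf.germ_res_apply, map_one]
    erw [e]
    rw [map_one, map_one]
  · obtain ⟨U, l, t, rfl⟩ := (Scheme.pointSmallEtale ξ).toPresheafFiber_jointly_surjective b
    let v₀ := liftHom ξ l default
    obtain ⟨O, hO, a, ha⟩ := U.left.presheaf.exists_germ_eq (locVal U v₀ (hstr U l) t)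
    have hu : IsUnit (U.left.presheaf.germ O v₀ hO a) := ha ▸ isUnit_locVal U v₀ (hstr U l) t
    obtain ⟨O₁, i, hvO₁, hu₁⟩ := U.left.toLocallyRingedSpace.toRingedSpace.isUnit_res_of_isUnit_germ O a v₀ hO hu
    obtain ⟨V, g, l', v, hl', hv, -, hgv, hone, hopen, hrange⟩ := hsmall U l O₁ hvO₁
    haveI := hopen
    have hle : g.left ⁻¹ᵁ O₁ = ⊤ := top_unique fun z _ => hrange ⟨z, rfl⟩
    let b₀ : Γ(V.left, ⊤) := V.left.presheaf.map (eqToHom hle.symm).op (g.left.app O₁ (U.left.presheaf.map i.op a))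
    have hb₀ : IsUnit b₀ := (hu₁.map (g.left.app O₁).hom).map (V.left.presheaf.map (eqToHom hle.symm).op).hom
    let s : EtCoh.sect (EtCoh.Gm X) V :=
      (ULift.up (Additive.ofMul hb₀.unit) : ULift.{u + 1} (Additive ((Γ(V.left, ⊤) : Type u)ˣ)))
    refine ⟨(Scheme.pointSmallEtale ξ).toPresheafFiber V l' (EtCoh.Gm X).obj s, ?_⟩
    refine ((Scheme.pointSmallEtale ξ).toPresheafFiber_naturality_apply (EtLim.GmPush (jLoc y)).hom V l' s).trans ?_
    refine Eq.trans ?_ ((Scheme.pointSmallEtale ξ).toPresheafFiber_w_apply g l'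
      (P := ((EtCoh.push (jLoc y)).obj (EtCoh.Gm _)).obj) t |>.trans (by rw [hl']; rfl))
    congr 1
    refine locVal_inj hy v hv hone ?_
    rw [locVal_GmPush, locVal_map g v hv (by rw [hgv]; exact hstr U l)]
    show V.left.presheaf.germ ⊤ v trivial b₀ = _
    have e1 : V.left.presheaf.germ ⊤ v trivial b₀ =
        g.left.stalkMap v (U.left.presheaf.germ O (g.left v) (hgv ▸ hO) a) := by
      rw [← U.left.presheaf.germ_res_apply i (g.left v) (hrange ⟨v, rfl⟩) a]
      erw [Scheme.Hom.germ_stalkMap_apply g.left O₁ v (hrange ⟨v, rfl⟩)]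
      exact TopCat.Presheaf.germ_res_apply V.left.presheaf _ v _ _
    rw [e1]
    congr 1
    have key : ∀ (v₁ : U.left) (h : v₁ = v₀) (h₁ : str U v₁ = y) (h₂ : v₁ ∈ O),
        U.left.presheaf.germ O v₁ h₂ a = locVal U v₁ h₁ t := by
      rintro v₁ rfl h₁ h₂
      exact ha
    exact key _ hgv _ _

end Maximal

end Groth.Agent.CurveNoeth
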