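import Groth.Agent.EtTraceLib.H90Push
import Groth.Agent.EtTraceLib.PicLocal
import Groth.Agent.EtTraceLib.DixEasy
import Groth.Agent.EtTraceLib.PushAcyclic
import Groth.Agent.S0642

/-!
# The multiplicative group on schemes with one point
-/

set_option autoImplicit false
set_option backward.isDefEq.respectTransparency false
set_option backward.isDefEq.respectTransparency.types false
set_option linter.style.haveILetI false

universe u

open CategoryTheory CategoryTheory.Limits AlgebraicGeometry Opposite CategoryTheory.Abelian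

noncomputable section

namespace Groth.Agent.CurveNoeth

open EtTraceLib EtPtsLib

/-- A scheme with one point has no nontrivial class of `G_m` in degree one. -/
theorem H1_Gm_eq_zero_of_subsingleton (W : Scheme.{u}) [Subsingleton W] [Nonempty W]
    (α : EtCoh.H W (EtCoh.Gm W) 1) : α = 0 := by
  obtain ⟨w⟩ := ‹Nonempty W›
  obtain ⟨U, hU, h⟩ := H1_Gm_locally_trivial α w
  obtain rfl : U = ⊤ := top_unique fun x _ => Subsingleton.elim w x ▸ hU
  haveI : PreservesFiniteLimits (EtCoh.pull (⊤ : W.Opens).ι) := Groth.Agent.S0101.result _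
  haveI : IsIso (⊤ : W.Opens).ι := (inferInstanceAs (IsIso W.topIso.hom))
  exact (Groth.Agent.S0642.result (⊤ : W.Opens).ι (EtCoh.Gm W) 1).1 (h.trans (map_zero _).symm)

/-- Global lifting through an extension by `G_m` on a scheme with one point. -/
theorem exists_lift_global {W : Scheme.{u}} [Subsingleton W] [Nonempty W] {S : ShortComplex (EtCoh.Ab W)}
    (hS : S.ShortExact) (e : S.X₁ ≅ EtCoh.Gm W) (q : EtCoh.sect S.X₃ (EtCoh.top W)) :
    ∃ s : EtCoh.sect S.X₂ (EtCoh.top W), S.g.hom.app _ s = q := by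
  let A := constantSheafAdj W.smallEtaleTopology AddCommGrpCat.{u + 1} (EtCore.topIsTerminal W)
  let b : EtCoh.const W ℤ ⟶ S.X₃ :=
    (A.homEquiv _ _).symm (AddCommGrpCat.ofHom (X := ULift.{u + 1} ℤ)
      ((zmultiplesHom _ q).comp AddEquiv.ulift.toAddMonoidHom))
  have h1 : ((Ext.mk₀ b).comp hS.extClass (zero_add 1)).comp (Ext.mk₀ e.hom) (add_zero 1) = 0 :=
    H1_Gm_eq_zero_of_subsingleton W _
  have h0 : (Ext.mk₀ b).comp hS.extClass (zero_add 1) = 0 := by
    have := congrArg (fun z => z.comp (Ext.mk₀ e.inv) (add_zero 1)) h1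
    simpa only [Ext.zero_comp, Ext.comp_assoc_of_second_deg_zero, Ext.comp_assoc_of_third_deg_zero,
      Ext.mk₀_comp_mk₀, Iso.hom_inv_id, Ext.comp_mk₀_id] using this
  obtain ⟨z, hz⟩ := Ext.covariant_sequence_exact₃ _ hS _ rfl h0
  obtain ⟨z, rfl⟩ := (Ext.mk₀_bijective _ _).2 z
  rw [Ext.mk₀_comp_mk₀] at hz
  have hz' : z ≫ S.g = b := (Ext.mk₀_bijective _ _).1 hz
  have hA := congrArg (fun m => (A.homEquiv _ _ m) (ULift.up.{u + 1} (1 : ℤ))) hz'
  simp only [b, Adjunction.homEquiv_naturality_right, Equiv.apply_symm_apply] at hA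
  exact ⟨(A.homEquiv _ _ z) (ULift.up.{u + 1} (1 : ℤ)), hA.trans (one_zsmul q)⟩

variable {T : Scheme.{u}} [Subsingleton T]

/-- Sections over étale schemes over a one-point scheme lift through an extension by `G_m`. -/
theorem exists_lift_sect {S : ShortComplex (EtCoh.Ab T)} (hS : S.ShortExact) (e : S.X₁ ≅ EtCoh.Gm T)
    (W : T.Etale) (q : EtCoh.sect S.X₃ W) : ∃ s : EtCoh.sect S.X₂ W, S.g.hom.app _ s = q := by
  haveI : AlgebraicGeometry.Etale W.hom := W.prop
  haveI : DiscreteTopology W.left := by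
    refine discreteTopology_iff_isOpen_singleton.2 fun w => ?_
    haveI : LocallyQuasiFinite W.hom := EtFibCard.locallyQuasiFinite_of_etale W.hom
    have h := W.hom.isDiscrete_preimage_singleton (W.hom w)
    rw [show ⇑W.hom ⁻¹' {W.hom w} = Set.univ from
      Set.eq_univ_of_forall fun y => Subsingleton.elim (α := T) _ _] at h
    haveI := h.to_subtype
    haveI : DiscreteTopology W.left := (Homeomorph.Set.univ W.left).discreteTopology
    exact isOpen_discrete _
  let O : W.left → W.left.Opens := fun w => ⟨{w}, isOpen_discrete _⟩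
  have hpiece : ∀ w, ∃ t : EtCoh.sect S.X₂ (openSub W (O w)),
      S.g.hom.app _ t = S.X₃.obj.map (openIncl W (O w)).op q := by
    intro w
    let P := openSub W (O w)
    haveI : Subsingleton P.left := ⟨fun a b => Subtype.ext (a.2.trans b.2.symm)⟩
    haveI : Nonempty P.left := ⟨⟨w, rfl⟩⟩
    let j : P.left ⟶ T := P.hom
    haveI : AlgebraicGeometry.Etale j := P.prop
    haveI := EtJCont.jCont j
    haveI : PreservesFiniteLimits (EtCoh.pull j) := preservesFiniteLimits_pull j
    haveI : PreservesFiniteLimits (EtShriek.restrAlong j) := preservesFiniteLimits_of_natIso (pullIsoRestr j)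
    haveI : PreservesFiniteColimits (EtShriek.restrAlong j) := preservesFiniteColimits_of_natIso (pullIsoRestr j)
    let i : (EtShriek.compEtale j).obj (EtCoh.top P.left) ≅ P :=
      MorphismProperty.Over.isoMk (Iso.refl _) (by
        show 𝟙 _ ≫ P.hom = 𝟙 _ ≫ j
        rfl)
    obtain ⟨t, ht⟩ := exists_lift_global (hS.map_of_exact (EtShriek.restrAlong j))
      ((EtShriek.restrAlong j).mapIso e ≪≫ restrGm j) (S.X₃.obj.map i.hom.op (S.X₃.obj.map (openIncl W (O w)).op q))
    refine ⟨S.X₂.obj.map i.inv.op t, ?_⟩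
    rw [NatTrans.naturality_apply S.g.hom i.inv.op t]
    refine (congrArg (S.X₃.obj.map i.inv.op) ht).trans ?_
    rw [← Functor.map_comp_apply, ← op_comp, Iso.inv_hom_id, op_id, CategoryTheory.Functor.map_id]
    rfl
  choose t ht using hpiece
  let F : Sheaf T.smallEtaleTopology (Type (u + 1)) := (sheafCompose _ (forget AddCommGrpCat.{u + 1})).obj S.X₂
  obtain ⟨s, hs⟩ := exists_glue F W O
    (fun a b hab => TopologicalSpace.Opens.coe_disjoint.1 (Set.disjoint_singleton.2 hab)) (fun x => ⟨x, rfl⟩) t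
  refine ⟨s, ?_⟩
  rw [← sub_eq_zero]
  refine sect_eq_zero_of_locally S.X₃ _ fun x => ⟨openSub W (O x), openIncl W (O x), ⟨⟨x, rfl⟩, rfl⟩, ?_⟩
  rw [map_sub, sub_eq_zero, ← ht x, ← NatTrans.naturality_apply S.g.hom (openIncl W (O x)).op s]
  exact congrArg (S.g.hom.app _) (hs x)

/-- Direct image from a one-point scheme is exact on extensions by `G_m`. -/
theorem epi_push_map {X : Scheme.{u}} (f : T ⟶ X) {S : ShortComplex (EtCoh.Ab T)} (hS : S.ShortExact)
    (e : S.X₁ ≅ EtCoh.Gm T) : Epi ((EtCoh.push f).map S.g) := by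
  haveI : Sheaf.IsLocallySurjective ((EtCoh.push f).map S.g) := by
    refine ⟨fun {U} q => covering_of_points _ fun x => ?_⟩
    obtain ⟨s, hs⟩ := exists_lift_sect hS e ((EtCoh.bc f).obj U) q
    refine ⟨U, 𝟙 U, x, ⟨s, ?_⟩, rfl⟩
    rw [op_id, CategoryTheory.Functor.map_id]
    exact hs
  exact (Sheaf.isLocallySurjective_iff_epi' AddCommGrpCat.{u + 1} ((EtCoh.push f).map S.g)).1 inferInstance

/-- The second cohomology of the direct image of `G_m` injects. -/
theorem H2_push_Gm_injective {X : Scheme.{u}} (f : T ⟶ X) [PreservesFiniteLimits (EtCoh.pull f)] :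
    Function.Injective (EtLim.HofPush f (EtCoh.Gm T) 2) := by
  refine (injective_iff_map_eq_zero _).2 fun x hx => ?_
  refine transpose_two_eq_zero (EtCoh.pullPushAdj f) _ _ (fun S hS ⟨e⟩ => epi_push_map f hS e) x ?_
  have hx' : (Ext.mk₀ (EtCore.pullConst f ℤ).inv).comp
      (ExtAdj.transpose (EtCoh.pullPushAdj f) (EtCoh.const X ℤ) (EtCoh.Gm T) 2 x) (zero_add 2) = 0 :=
    (Ext.comp_assoc _ _ _ (zero_add 2) (add_zero 2) (by omega)).symm.trans hx
  have := congrArg (fun z => (Ext.mk₀ (EtCore.pullConst f ℤ).hom).comp z (zero_add 2)) hx'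
  simpa only [Ext.comp_zero, Ext.mk₀_comp_mk₀_assoc, Iso.hom_inv_id, Ext.mk₀_id_comp] using this

/-- No `ℓ`-torsion in the second cohomology of `G_m` when the point has cohomological dimension one. -/
theorem H2_Gm_torsion_eq_zero {K : Scheme.{u}} (i : K ⟶ T) [IsIntegralHom i] [UniversallyInjective i] [Surjective i]
    (ℓ : ℕ) (hcd : Dix.CohDimLEAt K ℓ 1) (hinv : Dix.InvertibleOn T ℓ) (ξ : EtCoh.H T (EtCoh.Gm T) 2)
    (hξ : ℓ • ξ = 0) : ξ = 0 := by
  have hE : Epi (EtCoh.powMap T ℓ) := S0108.result T ℓ (isUnit_natCast_of_invertibleOn ℓ hinv)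
  obtain ⟨(y : EtCoh.H T (EtCoh.mu T ℓ) 2), hy⟩ :
      ξ ∈ Set.range ⇑((EtCoh.HF T 2).map (EtCoh.muι T ℓ)) := by rw [range_map_mu _ hE]; exact hξ
  haveI : PreservesFiniteLimits (EtCoh.pull i) := Groth.Agent.S0101.result i
  haveI : (EtCoh.pull i).Additive := Functor.additive_of_preserves_binary_products _
  have hμ : ℓ • 𝟙 (EtCoh.mu T ℓ) = 0 := by
    haveI : Mono (EtCoh.muι T ℓ) := inferInstanceAs (Mono (kernel.ι (EtCoh.powMap T ℓ)))
    refine (cancel_mono (EtCoh.muι T ℓ)).1 ?_
    rw [zero_comp, Preadditive.nsmul_comp, Category.id_comp, ← Category.comp_id (EtCoh.muι T ℓ),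
      ← Preadditive.comp_nsmul]
    exact kernel.condition _
  have hk : ℓ ^ 1 • 𝟙 ((EtCoh.pull i).obj (EtCoh.mu T ℓ)) = 0 := by
    have h := congrArg (fun a => (EtCoh.pull i).map a) hμ
    simp only [Functor.map_nsmul, CategoryTheory.Functor.map_id, Functor.map_zero] at h
    rw [pow_one]
    exact h
  have hy0 : y = 0 := (Groth.Agent.S0642.result i (EtCoh.mu T ℓ) 2).1
    ((eq_zero_of_cohDimLEAt ℓ 1 hcd 1 _ hk 2 (by omega) _).trans (map_zero _).symm)
  rw [hy0] at hy
  exact hy.symm.trans (map_zero _)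

end Groth.Agent.CurveNoeth
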