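import Groth.Agent.CurveNoeth.Main
import Groth.Agent.CurveNoeth.GmStalk
import Groth.Agent.CurveNoeth.OnePoint

/-!
# Torsion in the cohomology of the multiplicative group on Noetherian curves
-/

set_option autoImplicit false
set_option backward.isDefEq.respectTransparency false
set_option backward.isDefEq.respectTransparency.types false
set_option linter.style.haveILetI false
set_option maxHeartbeats 800000

universe u

open CategoryTheory CategoryTheory.Limits AlgebraicGeometry Opposite CategoryTheory.Abelian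

noncomputable section

namespace Groth.Agent.CurveNoeth

open EtTraceLib EtPtsLib EtClosedPts

variable {X : Scheme.{u}} (y : X)

/-- The stalk of a direct image from a local scheme at a maximal point is zero away from it. -/
theorem isZero_stalk_push_loc (hy : ∀ w : X, w ⤳ y → w = y) {Ω : Type u} [Field Ω] [IsSepClosed Ω]
    (ξ : Spec (CommRingCat.of Ω) ⟶ X) (h : ¬ y ⤳ ξ default) (G : EtCoh.Ab (Spec (X.presheaf.stalk y))) :
    IsZero ((EtCoh.stalk ξ).obj ((EtCoh.push (jLoc y)).obj G)) := by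
  refine AddCommGrpCat.isZero_iff_subsingleton.2 ⟨fun a b => ?_⟩
  obtain ⟨U, l, s, t, rfl, rfl⟩ := (Scheme.pointSmallEtale ξ).toPresheafFiber_jointly_surjective₂
    (P := ((EtCoh.push (jLoc y)).obj G).obj) a b
  haveI : AlgebraicGeometry.Etale U.hom := U.prop
  let O : U.left.Opens := ⟨U.hom ⁻¹' (closure {y})ᶜ, isClosed_closure.isOpen_compl.preimage U.hom.continuous⟩
  let V : X.Etale := Scheme.Etale.mk (O.ι ≫ U.hom)
  let g : V ⟶ U := MorphismProperty.Over.homMk O.ι rfl
  have hO : liftHom ξ l default ∈ O := by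
    intro hc
    have e : U.hom (liftHom ξ l default) = ξ default :=
      (Scheme.Hom.comp_apply _ _ _).symm.trans (congrArg (fun m => m default) (liftHom_comp ξ l))
    exact h (specializes_iff_mem_closure.2 ((congrArg (· ∈ closure {y}) e).mp hc))
  obtain ⟨y', hy'⟩ := exists_fiber_map_eq ξ g l (⟨_, hO⟩ : O.toScheme) rfl
  have hd : Disjoint (Set.range V.hom) (Set.range (jLoc y)) := by
    rw [Set.disjoint_iff]
    rintro x ⟨⟨z, rfl⟩, hx⟩
    rw [Scheme.range_fromSpecStalk] at hx
    exact z.2 (subset_closure (hy _ hx))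
  haveI := AddCommGrpCat.subsingleton_of_isZero
    (IsZero.of_iso (isZero_zero _) ((Sheaf.isTerminalOfBotCover G _
      (bot_mem_of_disjoint (jLoc y) hd)).uniqueUpToIso HasZeroObject.zeroIsTerminal))
  refine ((Scheme.pointSmallEtale ξ).toPresheafFiber_eq_iff' U _ s t).2 ⟨V, g, y', hy', ?_⟩
  exact Subsingleton.elim (α := ↑(G.obj.obj (op ((EtCoh.bc (jLoc y)).obj V)))) _ _

variable [AlgebraicGeometry.IsNoetherian X]
  (hcl : ∀ x : X, IsClosed ({x} : Set X) → IsSepClosed (X.residueField x))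

include hcl in
/-- A map bijective at the maximal points is bijective on cohomology above degree one. -/
theorem bijective_map_of_maximal (hdim : topologicalKrullDim X ≤ 1) {F G : EtCoh.Ab X} (φ : F ⟶ G)
    (hgen : ∀ (Ω : Type u) [Field Ω] [IsSepClosed Ω] (ξ : Spec (CommRingCat.of Ω) ⟶ X),
      (∀ x ∈ Set.range ξ.base, ∀ y : X, y ⤳ x → y = x) → IsIso ((EtCoh.stalk ξ).map φ))
    (q : ℕ) (hq : 1 < q) :
    Function.Injective (fun e : EtCoh.H X F q => e.comp (Ext.mk₀ φ) (add_zero q)) := by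
  have hK := fun n hn => subsingleton_H_of_maximal hcl hdim (kernel φ)
    (fun Ω _ _ ξ h => (isZero_stalk_kernel_cokernel φ ξ (hgen Ω ξ h)).1) n hn
  have hC := fun n hn => subsingleton_H_of_maximal hcl hdim (cokernel φ)
    (fun Ω _ _ ξ h => (isZero_stalk_kernel_cokernel φ ξ (hgen Ω ξ h)).2) n hn
  obtain ⟨w, hS₁⟩ := shortExact_image φ
  let S₂ := ShortComplex.mk (Abelian.image.ι φ) (cokernel.π φ) (kernel.condition _)
  have hS₂ : S₂.ShortExact := ⟨ShortComplex.exact_of_f_is_kernel _ (kernelIsKernel _)⟩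
  have e : (fun e : EtCoh.H X F q => e.comp (Ext.mk₀ φ) (add_zero q)) =
      (fun e : EtCoh.H X (Abelian.image φ) q => e.comp (Ext.mk₀ (Abelian.image.ι φ)) (add_zero q)) ∘
        fun e : EtCoh.H X F q => e.comp (Ext.mk₀ (Abelian.factorThruImage φ)) (add_zero q) := by
    funext z
    show _ = Ext.comp (Ext.comp z (Ext.mk₀ (Abelian.factorThruImage φ)) (add_zero q)) (Ext.mk₀ (Abelian.image.ι φ)) (add_zero q)
    rw [Ext.comp_assoc_of_second_deg_zero, Ext.mk₀_comp_mk₀, Abelian.image.fac]
  rw [e]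
  exact (bijective_f hS₂ hC q hq).1.comp (bijective_g hS₁ hK q (by omega)).1

omit [AlgebraicGeometry.IsNoetherian X] in
/-- Classes killed by a prime in the second cohomology of the direct image from a maximal point vanish. -/
theorem eq_zero_push_loc (hy : ∀ w : X, w ⤳ y → w = y) (ℓ : ℕ) (hinv : Dix.InvertibleOn X ℓ)
    (hcd : Dix.CohDimLEAt (Spec (X.residueField y)) ℓ 1)
    (x : EtCoh.H X ((EtCoh.push (jLoc y)).obj (EtCoh.Gm (Spec (X.presheaf.stalk y)))) 2) (hx : ℓ • x = 0) : x = 0 := by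
  haveI := subsingleton_spec hy
  haveI : PreservesFiniteLimits (EtCoh.pull (jLoc y)) := Groth.Agent.S0101.result _
  refine H2_push_Gm_injective (jLoc y) ?_
  rw [map_zero]
  let i : Spec (X.residueField y) ⟶ Spec (X.presheaf.stalk y) := Spec.map (X.residue y)
  haveI : IsClosedImmersion i :=
    IsClosedImmersion.spec_of_surjective _ IsLocalRing.residue_surjective
  haveI : Surjective i := ⟨fun t => ⟨default, Subsingleton.elim _ _⟩⟩
  refine H2_Gm_torsion_eq_zero i ℓ hcd (fun t h0 => ?_) _ (by rw [← map_nsmul, hx, map_zero])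
  refine hinv (jLoc y t) ((jLoc y).residueFieldMap t |>.hom.injective ?_)
  rw [map_natCast, map_zero]
  exact h0

include hcl in
/-- No torsion of order invertible on the curve in the cohomology of `G_m` above degree one. -/
theorem H_Gm_prime_torsion_eq_zero (hdim : topologicalKrullDim X ≤ 1) (ℓ : ℕ) (hℓ : ℓ.Prime)
    (hinv : Dix.InvertibleOn X ℓ)
    (hcd : ∀ x : X, closure {x} ∈ irreducibleComponents (X : Type u) → Dix.CohDimLEAt (Spec (X.residueField x)) ℓ 1)
    (i : ℕ) (hi : 2 ≤ i) (ξ : EtCoh.H X (EtCoh.Gm X) i) (hξ : ℓ • ξ = 0) : ξ = 0 := by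
  rcases Nat.lt_or_ge i 3 with h3 | h3
  · obtain rfl : i = 2 := by omega
    obtain ⟨T, hT⟩ := exists_finset_maximal (X := X)
    let v : Fin T.card → X := fun a => (T.equivFin.symm a).1
    have hv : ∀ a, v a ∈ T := fun a => (T.equivFin.symm a).2
    have hvinj : Function.Injective v := Subtype.val_injective.comp T.equivFin.symm.injective
    let P : Fin T.card → EtCoh.Ab X := fun a => (EtCoh.push (jLoc (v a))).obj (EtCoh.Gm (Spec (X.presheaf.stalk (v a))))
    let φ : EtCoh.Gm X ⟶ ⨁ P := biproduct.lift fun z => EtLim.GmPush (jLoc (v z))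
    have ht : (∑ z, biproduct.π P z ≫ biproduct.ι P z) = 𝟙 (⨁ P) := biproduct.total
    refine bijective_map_of_maximal hcl hdim φ (fun Ω _ _ ξ hmax => ?_) 2 (by omega) ?_
    · have hmem : ξ default ∈ T := (hT _).2 (hmax _ ⟨default, rfl⟩)
      obtain ⟨z₀, hz₀⟩ : ∃ z₀, v z₀ = ξ default :=
        ⟨T.equivFin ⟨_, hmem⟩, by simp [v]⟩
      haveI : (EtCoh.stalk ξ).Additive := Functor.additive_of_preserves_binary_products _
      haveI : IsIso ((EtCoh.stalk ξ).map (biproduct.π P z₀)) := by
        refine ⟨(EtCoh.stalk ξ).map (biproduct.ι P z₀), ?_, ?_⟩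
        · rw [← Functor.map_comp]
          refine Eq.trans ?_ ((EtCoh.stalk ξ).map_id (⨁ P))
          rw [← ht, Functor.map_sum, Finset.sum_eq_single z₀ (fun z _ hne => ?_) fun h => absurd (Finset.mem_univ _) h]
          have hz0 : IsZero ((EtCoh.stalk ξ).obj (P z)) := isZero_stalk_push_loc (v z) ((hT _).1 (hv z)) ξ
            (fun hs => hne (hvinj ((hmax _ ⟨default, rfl⟩ (v z) hs).trans hz₀.symm))) _
          rw [Functor.map_comp, hz0.eq_zero_of_tgt ((EtCoh.stalk ξ).map (biproduct.π P z)), zero_comp]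
        · rw [← Functor.map_comp, biproduct.ι_π_self, CategoryTheory.Functor.map_id]
      haveI := isIso_stalk_GmPush ((hT _).1 (hv z₀)) ξ hz₀.symm
      have hfac : (EtCoh.stalk ξ).map φ ≫ (EtCoh.stalk ξ).map (biproduct.π P z₀) =
          (EtCoh.stalk ξ).map (EtLim.GmPush (jLoc (v z₀))) := by
        rw [← Functor.map_comp, biproduct.lift_π]
      exact IsIso.of_isIso_fac_right hfac
    · show ξ.comp (Ext.mk₀ φ) (add_zero 2) = (0 : EtCoh.H X (EtCoh.Gm X) 2).comp (Ext.mk₀ φ) (add_zero 2)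
      rw [Ext.zero_comp]
      have hk : ∀ z, (ξ.comp (Ext.mk₀ φ) (add_zero 2)).comp (Ext.mk₀ (biproduct.π P z)) (add_zero 2) = 0 := fun z => by
        refine eq_zero_push_loc (v z) ((hT _).1 (hv z)) ℓ hinv
          (hcd _ (mem_irreducibleComponents_of_maximal ((hT _).1 (hv z)))) _ ?_
        let a := ((EtCoh.HF X 2).map φ).hom
        let b := ((EtCoh.HF X 2).map (biproduct.π P z)).hom
        have hab : ℓ • b (a ξ) = 0 := by
          refine (map_nsmul b ℓ (a ξ)).symm.trans ?_
          refine (congrArg b ((map_nsmul a ℓ ξ).symm.trans ((congrArg a hξ).trans (map_zero a)))).trans (map_zero b)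
        exact hab
      rw [← Ext.comp_mk₀_id (ξ.comp (Ext.mk₀ φ) (add_zero 2)), ← ht, Ext.mk₀_sum, Ext.comp_sum]
      refine Finset.sum_eq_zero fun z _ => ?_
      rw [← Ext.mk₀_comp_mk₀, ← Ext.comp_assoc_of_second_deg_zero, hk, Ext.zero_comp]
  · have hE : Epi (EtCoh.powMap X ℓ) := S0108.result X ℓ (isUnit_natCast_of_invertibleOn ℓ hinv)
    obtain ⟨(y : EtCoh.H X (EtCoh.mu X ℓ) i), hy⟩ :
        ξ ∈ Set.range ⇑((EtCoh.HF X i).map (EtCoh.muι X ℓ)) := by rw [range_map_mu _ hE]; exact hξ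
    rw [@Subsingleton.elim _ (subsingleton_H_prime hcl hdim ℓ hcd _ (nsmul_id_mu X ℓ) i h3) y 0] at hy
    exact hy.symm.trans (map_zero _)

end Groth.Agent.CurveNoeth
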