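import Groth.Agent.CurveNoeth.Gm

/-!
# The second cohomology of the multiplicative group injects at the maximal points
-/

set_option autoImplicit false
set_option backward.isDefEq.respectTransparency false
set_option backward.isDefEq.respectTransparency.types false
set_option linter.style.haveILetI false
set_option maxHeartbeats 800000

universe u

open CategoryTheory CategoryTheory.Limits AlgebraicGeometry Opposite CategoryTheory.Abelian

noncomputable section

namespace Groth.Agent.CurveNoeth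

open EtTraceLib EtPtsLib EtClosedPts

variable {X : Scheme.{u}} [AlgebraicGeometry.IsNoetherian X]
  (hcl : ∀ x : X, IsClosed ({x} : Set X) → IsSepClosed (X.residueField x))

include hcl in
/-- A class of degree two vanishing over the local scheme of every maximal point vanishes. -/
theorem eq_zero_of_maximal (hdim : topologicalKrullDim X ≤ 1)
    [∀ x : X, PreservesFiniteLimits (EtCoh.pull (X.fromSpecStalk x))] (ξ : EtCoh.H X (EtCoh.Gm X) 2)
    (hξ : ∀ y : X, (∀ w : X, w ⤳ y → w = y) → EtLim.HGmPull (X.fromSpecStalk y) 2 ξ = 0) : ξ = 0 := by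
  obtain ⟨T, hT⟩ := exists_finset_maximal (X := X)
  let v : Fin T.card → X := fun a => (T.equivFin.symm a).1
  have hv : ∀ a, v a ∈ T := fun a => (T.equivFin.symm a).2
  have hvinj : Function.Injective v := Subtype.val_injective.comp T.equivFin.symm.injective
  let P : Fin T.card → EtCoh.Ab X := fun a => (EtCoh.push (jLoc (v a))).obj (EtCoh.Gm (Spec (X.presheaf.stalk (v a))))
  let φ : EtCoh.Gm X ⟶ ⨁ P := biproduct.lift fun z => EtLim.GmPush (jLoc (v z))
  have ht : (∑ z, biproduct.π P z ≫ biproduct.ι P z) = 𝟙 (⨁ P) := biproduct.total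
  refine bijective_map_of_maximal hcl hdim φ (fun Ω _ _ ξ hmax => ?_) 2 (by omega) ?_
  · have hmem : ξ default ∈ T := (hT _).2 (hmax _ ⟨default, rfl⟩)
    obtain ⟨z₀, hz₀⟩ : ∃ z₀, v z₀ = ξ default :=
      ⟨T.equivFin ⟨_, hmem⟩, by simp [v]⟩
    haveI : (EtCoh.stalk ξ).Additive := Functor.additive_of_preserves_binary_products _
    haveI : IsIso ((EtCoh.stalk ξ).map (biproduct.π P z₀)) := by
      refine ⟨(EtCoh.stalk ξ).map (biproduct.ι P z₀), ?_, ?_⟩
      · rw [← Functor.map_comp]
        refine Eq.trans ?_ ((EtCoh.stalk ξ).map_id (⨁ P))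
        rw [← ht, Functor.map_sum, Finset.sum_eq_single z₀ (fun z _ hne => ?_) fun h => absurd (Finset.mem_univ _) h]
        have hz0 : IsZero ((EtCoh.stalk ξ).obj (P z)) := isZero_stalk_push_loc (v z) ((hT _).1 (hv z)) ξ
          (fun hs => hne (hvinj ((hmax _ ⟨default, rfl⟩ (v z) hs).trans hz₀.symm))) _
        rw [Functor.map_comp, hz0.eq_zero_of_tgt ((EtCoh.stalk ξ).map (biproduct.π P z)), zero_comp]
      · rw [← Functor.map_comp, biproduct.ι_π_self, CategoryTheory.Functor.map_id]
    haveI := isIso_stalk_GmPush ((hT _).1 (hv z₀)) ξ hz₀.symm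
    have hfac : (EtCoh.stalk ξ).map φ ≫ (EtCoh.stalk ξ).map (biproduct.π P z₀) =
        (EtCoh.stalk ξ).map (EtLim.GmPush (jLoc (v z₀))) := by
      rw [← Functor.map_comp, biproduct.lift_π]
    exact IsIso.of_isIso_fac_right hfac
  · show ξ.comp (Ext.mk₀ φ) (add_zero 2) = (0 : EtCoh.H X (EtCoh.Gm X) 2).comp (Ext.mk₀ φ) (add_zero 2)
    rw [Ext.zero_comp]
    have hk : ∀ z, (ξ.comp (Ext.mk₀ φ) (add_zero 2)).comp (Ext.mk₀ (biproduct.π P z)) (add_zero 2) = 0 := fun z => by
      rw [Ext.comp_assoc_of_second_deg_zero, Ext.mk₀_comp_mk₀, biproduct.lift_π]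
      haveI := subsingleton_spec ((hT _).1 (hv z))
      refine H2_push_Gm_injective (jLoc (v z)) ?_
      rw [map_zero]
      exact hξ (v z) ((hT _).1 (hv z))
    rw [← Ext.comp_mk₀_id (ξ.comp (Ext.mk₀ φ) (add_zero 2)), ← ht, Ext.mk₀_sum, Ext.comp_sum]
    refine Finset.sum_eq_zero fun z _ => ?_
    rw [← Ext.mk₀_comp_mk₀, ← Ext.comp_assoc_of_second_deg_zero, hk, Ext.zero_comp]

end Groth.Agent.CurveNoeth
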