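import Groth.Agent.CurveNoeth.Basic

/-!
# Cohomological dimension of Noetherian curves with separably closed closed points
-/

set_option autoImplicit false
set_option backward.isDefEq.respectTransparency false
set_option backward.isDefEq.respectTransparency.types false
set_option linter.style.haveILetI false

universe u

open CategoryTheory CategoryTheory.Limits AlgebraicGeometry Opposite CategoryTheory.Abelian

noncomputable section

namespace Groth.Agent.CurveNoeth

open EtTraceLib EtPtsLib EtClosedPts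

variable {X : Scheme.{u}} [AlgebraicGeometry.IsNoetherian X]
  (hcl : ∀ x : X, IsClosed ({x} : Set X) → IsSepClosed (X.residueField x))

omit [AlgebraicGeometry.IsNoetherian X] in
theorem mem_irreducibleComponents_of_maximal {y : X} (hy : ∀ w : X, w ⤳ y → w = y) :
    closure ({y} : Set X) ∈ irreducibleComponents (X : Type u) := by
  refine ⟨isIrreducible_singleton.closure, fun Z hZ hle => ?_⟩
  obtain ⟨g, hg⟩ := QuasiSober.sober hZ.closure isClosed_closure
  have hgy : g ⤳ y := specializes_iff_mem_closure.2 (hg.def ▸ subset_closure (hle (subset_closure rfl)))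
  rw [hy g hgy] at hg
  show Z ⊆ closure {y}
  rw [hg.def]
  exact subset_closure

omit [AlgebraicGeometry.IsNoetherian X] in
theorem nsmul_id_atPt (y : X) {F : EtCoh.Ab X} (n : ℕ) (hF : n • 𝟙 F = 0) : n • 𝟙 (atPt y F) = 0 := by
  haveI : (EtCoh.pull (X.fromSpecResidueField y)).IsLeftAdjoint :=
    (EtCoh.pullPushAdj (X.fromSpecResidueField y)).isLeftAdjoint
  haveI : (EtCoh.pull (X.fromSpecResidueField y)).Additive := Functor.additive_of_preserves_binary_products _
  have h := congrArg (fun a => (EtCoh.pull (X.fromSpecResidueField y)).map a) hF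
  simp only [Functor.map_nsmul, CategoryTheory.Functor.map_id, Functor.map_zero] at h
  exact h

include hcl in
/-- Sheaves killed by a prime have no cohomology above degree two. -/
theorem subsingleton_H_prime (hdim : topologicalKrullDim X ≤ 1) (ℓ : ℕ)
    (hcd : ∀ x : X, closure {x} ∈ irreducibleComponents (X : Type u) → Dix.CohDimLEAt (Spec (X.residueField x)) ℓ 1)
    (F : EtCoh.Ab X) (hF : ℓ • 𝟙 F = 0) (q : ℕ) (hq : 3 ≤ q) : Subsingleton (EtCoh.H X F q) := by
  obtain ⟨T, hT⟩ := exists_finset_maximal (X := X)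
  refine subsingleton_H_devissage hcl hdim 3 (by omega) T (fun y hy => (hT y).1 hy) F
    (fun Ω _ _ ξ hmax hξ => absurd ((hT _).2 (hmax _ ⟨default, rfl⟩)) hξ) (fun y hy m hm => ?_) q hq
  have hc := hcd y (mem_irreducibleComponents_of_maximal ((hT y).1 hy))
  have hk := nsmul_id_atPt y ℓ hF
  exact subsingleton_H_push_of_cd hcl hdim y _
    (fun r hr x => eq_zero_of_cohDimLEAt ℓ 1 hc 1 _ (by rw [pow_one]; exact hk) r (by omega) x)
    (fun L _ _ _ _ r hr x => eq_zero_of_killed_finite (X.residueField y : Type u) ℓ hc _ hk L r hr x) m hm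

include hcl in
/-- Sheaves killed by an integer have no cohomology above degree two. -/
theorem subsingleton_H_killed (hdim : topologicalKrullDim X ≤ 1) (n : ℕ) (hn : 0 < n)
    (hcd : ∀ x : X, closure {x} ∈ irreducibleComponents (X : Type u) →
      ∀ ℓ : ℕ, ℓ.Prime → ℓ ∣ n → Dix.CohDimLEAt (Spec (X.residueField x)) ℓ 1)
    (F : EtCoh.Ab X) (hF : n • 𝟙 F = 0) (q : ℕ) (hq : 3 ≤ q) : Subsingleton (EtCoh.H X F q) := by
  induction n using Nat.strong_induction_on generalizing F with
  | _ n ih =>
  rcases eq_or_ne n 1 with rfl | h1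
  · refine subsingleton_of_forall_eq 0 fun x => ?_
    rw [one_smul] at hF
    rw [← Ext.comp_mk₀_id x, hF, Ext.mk₀_zero, Ext.comp_zero]
  obtain ⟨ℓ, hℓ, m, rfl⟩ := Nat.exists_prime_and_dvd h1
  have hm : 0 < m := Nat.pos_of_mul_pos_left hn
  let φ : F ⟶ F := ℓ • 𝟙 F
  obtain ⟨w, hS⟩ := shortExact_image φ
  have hK : ℓ • 𝟙 (kernel φ) = 0 := by
    rw [← cancel_mono (kernel.ι φ), zero_comp, Preadditive.nsmul_comp, Category.id_comp]
    have h := kernel.condition φ
    rwa [show kernel.ι φ ≫ φ = ℓ • kernel.ι φ by simp [φ, Preadditive.comp_nsmul]] at h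
  have hI : m • 𝟙 (Abelian.image φ) = 0 := by
    rw [← cancel_mono (Abelian.image.ι φ), ← cancel_epi (Abelian.factorThruImage φ), zero_comp, comp_zero,
      Preadditive.nsmul_comp, Category.id_comp, Preadditive.comp_nsmul, Abelian.image.fac]
    show m • ℓ • 𝟙 F = 0
    rw [smul_smul, mul_comm]
    exact hF
  have hA := subsingleton_H_prime hcl hdim ℓ (fun x hx => hcd x hx ℓ hℓ (dvd_mul_right _ _)) _ hK q hq
  have hB := ih m (lt_mul_left hm hℓ.one_lt) hm (fun x hx p hp hpm => hcd x hx p hp (hpm.mul_left _)) _ hI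
  refine subsingleton_of_forall_eq 0 fun x => ?_
  obtain ⟨a, ha⟩ := Ext.covariant_sequence_exact₂ _ hS x (@Subsingleton.elim _ hB _ 0)
  rw [← ha, @Subsingleton.elim _ hA a 0, Ext.zero_comp]

omit [AlgebraicGeometry.IsNoetherian X] in
theorem nsmul_id_mu (X : Scheme.{u}) (n : ℕ) : n • 𝟙 (EtCoh.mu X n) = 0 := by
  haveI : Mono (EtCoh.muι X n) := inferInstanceAs (Mono (kernel.ι (EtCoh.powMap X n)))
  refine (cancel_mono (EtCoh.muι X n)).1 ?_
  rw [zero_comp, Preadditive.nsmul_comp, Category.id_comp, ← Category.comp_id (EtCoh.muι X n),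
    ← Preadditive.comp_nsmul]
  exact kernel.condition _

end Groth.Agent.CurveNoeth
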